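import Cfsg.Agent.BpTab.Base
import Cfsg.Agent.BpLin.Quot
import Cfsg.Agent.BpTab.Rows
import Cfsg.Agent.Schreier.Cases
set_option linter.all false

-- merged: Cfsg.Agent.BpRed.Lift
section

/-!
# Fixed points modulo a normal `p'`-subgroup and modulo a central subgroup (helper65, for S1332)

* `exists_mul_mem_centralizer` : if `A` is a `p`-group and `g` commutes with `A` modulo the normal `p'`-subgroup `N`, then some
  `n * g` with `n ∈ N` commutes with `A`;
* `good_fixed_layer` : `Good p (C_E(ξ))` for an automorphism `ξ` with `ξ ^ p = 1` of a product `E` of components.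
-/

set_option autoImplicit false
set_option linter.unusedSectionVars false

namespace Cfsg.Agent.BpRed

open Subgroup Cfsg Cfsg.Agent.Lib Cfsg.Agent.SignalizersComponents Cfsg.Agent.BpTab

universe u

section Cop

variable {Y : Type*} [Group Y] [Finite Y] {p : ℕ} [hp : Fact p.Prime]

theorem card_mul_relIndex' {A H : Subgroup Y} (h : A ≤ H) : Nat.card A * (A.subgroupOf H).index = Nat.card H := by
  have := Subgroup.card_mul_index (A.subgroupOf H)
  rwa [Nat.card_congr (Subgroup.subgroupOfEquivOfLe h).toEquiv] at this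

theorem not_dvd_index {N A B : Subgroup Y} [N.Normal] (hN : (Nat.card N).Coprime p) (hB : B ≤ A ⊔ N)
    (hc : Nat.card B = Nat.card A) : ¬ p ∣ (B.subgroupOf (A ⊔ N)).index := by
  have h1 : (A.subgroupOf (A ⊔ N)).index ∣ Nat.card N := PComponents.relIndex_sup_dvd_card A N
  have h2 : (B.subgroupOf (A ⊔ N)).index = (A.subgroupOf (A ⊔ N)).index := by
    have h3 := card_mul_relIndex' hB
    have h4 := card_mul_relIndex' (le_sup_left : A ≤ A ⊔ N)
    rw [hc, ← h4] at h3
    exact Nat.eq_of_mul_eq_mul_left Nat.card_pos h3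
  rw [h2]
  intro h
  exact (Nat.Prime.coprime_iff_not_dvd hp.out).mp (hN.coprime_dvd_left h1).symm h

/-- If `A` is a `p`-group and `g` commutes with `A` modulo the normal `p'`-subgroup `N`, then some `n * g` with `n ∈ N`
commutes with `A`. -/
theorem exists_mul_mem_centralizer {N A : Subgroup Y} [hNn : N.Normal] (hA : IsPGroup p A)
    (hN : (Nat.card N).Coprime p) {g : Y} (hg : ∀ a ∈ A, g * a * g⁻¹ * a⁻¹ ∈ N) :
    ∃ n ∈ N, n * g ∈ centralizer (A : Set Y) := by
  set B : Subgroup Y := A.map (MulAut.conj g).toMonoidHom with hB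
  have hBH : B ≤ A ⊔ N := by
    rintro _ ⟨a, ha, rfl⟩
    have h1 : (MulAut.conj g) a = (g * a * g⁻¹ * a⁻¹) * a := by
      rw [MulAut.conj_apply]; group
    change (MulAut.conj g) a ∈ A ⊔ N
    rw [h1]
    exact mul_mem ((le_sup_right : N ≤ A ⊔ N) (hg a ha)) ((le_sup_left : A ≤ A ⊔ N) ha)
  have hBp : IsPGroup p B := hA.map _
  have hBc : Nat.card B = Nat.card A :=
    Nat.card_congr (A.equivMapOfInjective _ (MulAut.conj g).injective).symm.toEquiv
  let P : Sylow p ↥(A ⊔ N) := (hA.comap_subtype (K := A ⊔ N)).toSylow (P := A.subgroupOf (A ⊔ N))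
    (not_dvd_index hN le_sup_left rfl)
  let Q : Sylow p ↥(A ⊔ N) := (hBp.comap_subtype (K := A ⊔ N)).toSylow (P := B.subgroupOf (A ⊔ N))
    (not_dvd_index hN hBH hBc)
  obtain ⟨h, hh⟩ := MulAction.exists_smul_eq ↥(A ⊔ N) Q P
  have hh' : ∀ b ∈ A, (h : Y) * (g * b * g⁻¹) * (h : Y)⁻¹ ∈ A := by
    intro b hb
    have hbB : g * b * g⁻¹ ∈ B := ⟨b, hb, by simp⟩
    have h1 : (⟨g * b * g⁻¹, hBH hbB⟩ : ↥(A ⊔ N)) ∈ (Q : Subgroup ↥(A ⊔ N)) := hbB
    have h2 : h * ⟨g * b * g⁻¹, hBH hbB⟩ * h⁻¹ ∈ (P : Subgroup ↥(A ⊔ N)) := by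
      rw [← hh, Sylow.coe_subgroup_smul]
      exact Subgroup.mem_map_of_mem _ h1
    exact h2
  obtain ⟨a, ha, n, hn, han⟩ := (Subgroup.mem_sup_of_normal_right (s := A) (t := N)).1 h.2
  refine ⟨n, hn, ?_⟩
  have hk : ∀ b ∈ A, (n * g) * b * (n * g)⁻¹ ∈ A := by
    intro b hb
    have h1 := hh' b hb
    rw [← han] at h1
    have h2 : (n * g) * b * (n * g)⁻¹ = a⁻¹ * (a * n * (g * b * g⁻¹) * (a * n)⁻¹) * a := by group
    rw [h2]
    exact mul_mem (mul_mem (inv_mem ha) h1) ha
  have hdisj : ∀ y ∈ A, y ∈ N → y = 1 := by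
    intro y hyA hyN
    obtain ⟨k, hk⟩ := hA ⟨y, hyA⟩
    have h1 : y ^ p ^ k = 1 := congrArg Subtype.val hk
    have h2 : (⟨y, hyN⟩ : N) ^ Nat.card N = 1 := pow_card_eq_one'
    have h3 : y ^ Nat.card N = 1 := congrArg Subtype.val h2
    have h4 : y ^ (Nat.card N).gcd (p ^ k) = 1 := pow_gcd_eq_one.mpr ⟨h3, h1⟩
    rwa [Nat.Coprime.pow_right k hN, pow_one] at h4
  rw [Subgroup.mem_centralizer_iff]
  intro b hb
  have h5 : (n * g) * b * (n * g)⁻¹ * b⁻¹ ∈ N := by
    have h6 : (n * g) * b * (n * g)⁻¹ * b⁻¹ = n * (g * b * g⁻¹ * b⁻¹) * (b * n⁻¹ * b⁻¹) := by group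
    rw [h6]
    exact mul_mem (mul_mem hn (hg b hb)) (hNn.conj_mem _ (inv_mem hn) b)
  have h7 := hdisj _ (mul_mem (hk b hb) (inv_mem hb)) h5
  have h8 : (n * g) * b = b * (n * g) := by
    calc (n * g) * b = ((n * g) * b * (n * g)⁻¹ * b⁻¹) * (b * (n * g)) := by group
      _ = b * (n * g) := by rw [h7, one_mul]
  exact h8.symm

end Cop

end Cfsg.Agent.BpRed

end

-- merged: Cfsg.Agent.BpRed.Layer
section

/-!
# Automorphisms of order `p` of a product of components (helper65, for S1332)

`good_fixed_layer` : if `E` is generated by its components and `ξ ^ p = 1`, then `Good p (C_E(ξ))`, provided the simple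
groups satisfy `BpS p`.
-/

set_option autoImplicit false
set_option linter.unusedSectionVars false

namespace Cfsg.Agent.BpRed

open Subgroup Cfsg Cfsg.Agent.Lib Cfsg.Agent.SignalizersComponents Cfsg.Agent.BpTab
open scoped commutatorElement

universe u

section One

variable {E : Type u} [Group E] [Finite E] {p : ℕ} [hp : Fact p.Prime]

theorem component_normal (hE : layer E = ⊤) {K : Subgroup E} (hK : IsComponent K) : K.Normal := by
  rw [← normalizer_eq_top_iff, eq_top_iff, ← hE]
  exact Components.layer_le_normalizer_component hK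

theorem sup_centralizer (hE : layer E = ⊤) {K : Subgroup E} (hK : IsComponent K) :
    K ⊔ centralizer (K : Set E) = ⊤ := by
  rw [eq_top_iff, ← hE]
  refine Components.layer_le_iff.2 fun L hL => ?_
  by_cases h : L = K
  · rw [h]; exact le_sup_left
  · exact (Components.component_le_centralizer_of_ne hL hK h).trans le_sup_right

theorem map_mk_eq_top (hE : layer E = ⊤) {K D : Subgroup E} [D.Normal] (hK : IsComponent K)
    (hD : D = centralizer (K : Set E)) : K.map (QuotientGroup.mk' D) = ⊤ := by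
  have h1 := congrArg (Subgroup.map (QuotientGroup.mk' D)) (sup_centralizer hE hK)
  rw [Subgroup.map_sup, ← hD, QuotientGroup.map_mk'_self, sup_bot_eq,
    Subgroup.map_top_of_surjective _ (QuotientGroup.mk'_surjective D)] at h1
  exact h1

theorem simple_quotient (hE : layer E = ⊤) {K D : Subgroup E} [D.Normal] (hK : IsComponent K)
    (hD : D = centralizer (K : Set E)) : IsSimpleGroup (E ⧸ D) ∧ ¬ IsMulCommutative (E ⧸ D) := by
  let f : K →* E ⧸ D := (QuotientGroup.mk' D).comp K.subtype
  have hf : Function.Surjective f := by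
    intro y
    have h1 : y ∈ K.map (QuotientGroup.mk' D) := by rw [map_mk_eq_top hE hK hD]; exact mem_top y
    obtain ⟨k, hk, rfl⟩ := h1
    exact ⟨⟨k, hk⟩, rfl⟩
  have hker : f.ker = center K := by
    ext k
    rw [MonoidHom.mem_ker]
    change (QuotientGroup.mk' D) (k : E) = 1 ↔ _
    rw [QuotientGroup.mk'_apply, QuotientGroup.eq_one_iff, hD, mem_centralizer_iff, mem_center_iff]
    constructor
    · intro h g
      exact Subtype.ext (h g g.2)
    · intro h g hg
      exact congrArg Subtype.val (h ⟨g, hg⟩)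
  let e : K ⧸ center K ≃* E ⧸ D :=
    (QuotientGroup.quotientMulEquivOfEq hker.symm).trans (QuotientGroup.quotientKerEquivOfSurjective f hf)
  have hs : IsSimpleGroup (K ⧸ center K) := hK.2.2
  exact ⟨e.symm.isSimpleGroup, Schreier.KBalance.not_isMulCommutative_of_equiv e.symm
    (Schreier.KBalance.not_isMulCommutative_quotient hK.2)⟩

/-- the image of `C_E(ξ)` in `E / C_E(K)`, `K` moved by `ξ` -/
theorem range_eq_top_of_moved (hE : layer E = ⊤) {K D : Subgroup E} [D.Normal] (hK : IsComponent K)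
    (hD : D = centralizer (K : Set E)) (ξ : MulAut E) (hξ : ξ ^ p = 1) (hm : K.map ξ.toMonoidHom ≠ K) :
    ((QuotientGroup.mk' D).comp (fixedSubgroup ξ).subtype).range = ⊤ := by
  -- the powers of `ξ` move `K`
  have hpow : ∀ i : ℕ, ∀ L : Subgroup E, (L.map ξ.toMonoidHom = L) → L.map (ξ ^ i).toMonoidHom = L := by
    intro i L hL
    induction i with
    | zero =>
      rw [pow_zero]
      exact Subgroup.map_id L
    | succ i ih =>
      have h1 : (ξ ^ (i + 1)).toMonoidHom = (ξ ^ i).toMonoidHom.comp ξ.toMonoidHom := by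
        rw [pow_succ]; rfl
      rw [h1, ← Subgroup.map_map, hL, ih]
  have hmv : ∀ i : ℕ, ¬ p ∣ i → K.map (ξ ^ i).toMonoidHom ≠ K := by
    intro i hi h
    apply hm
    -- `ξ` is a power of `ξ ^ i`
    obtain ⟨j, hj⟩ : ∃ j, (ξ ^ i) ^ j = ξ := by
      have hcop : Nat.Coprime i p := ((Nat.Prime.coprime_iff_not_dvd hp.out).mpr hi).symm
      obtain ⟨j, -, hj⟩ := Nat.exists_mul_mod_eq_one_of_coprime hcop hp.out.one_lt
      refine ⟨j, ?_⟩
      rw [← pow_mul, ← Nat.div_add_mod (i * j) p, hj, pow_add, pow_mul, hξ, one_pow, one_mul, pow_one]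
    have hpow' : ∀ j : ℕ, K.map ((ξ ^ i) ^ j).toMonoidHom = K := by
      intro j
      induction j with
      | zero =>
        rw [pow_zero]
        exact Subgroup.map_id K
      | succ j ih =>
        have h1 : ((ξ ^ i) ^ (j + 1)).toMonoidHom = ((ξ ^ i) ^ j).toMonoidHom.comp (ξ ^ i).toMonoidHom := by
          rw [pow_succ]; rfl
        rw [h1, ← Subgroup.map_map, h, ih]
    rw [← hj]
    exact hpow' j
  rw [eq_top_iff]
  intro y _
  have h1 : y ∈ K.map (QuotientGroup.mk' D) := by rw [map_mk_eq_top hE hK hD]; exact mem_top y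
  obtain ⟨k, hk, rfl⟩ := h1
  obtain ⟨n, hn⟩ : ∃ n, p = n + 1 := ⟨p - 1, (Nat.succ_pred_eq_of_pos hp.out.pos).symm⟩
  set A : E := ((List.range n).map (fun i => (ξ ^ (i + 1)) k)).prod with hA
  have hAD : A ∈ D := by
    refine Subgroup.list_prod_mem _ fun x hx => ?_
    obtain ⟨i, hi, rfl⟩ := List.mem_map.1 hx
    rw [List.mem_range] at hi
    have h2 : K.map (ξ ^ (i + 1)).toMonoidHom ≠ K := by
      apply hmv
      intro hd
      have := Nat.le_of_dvd (Nat.succ_pos i) hd
      omega
    have h3 : IsComponent (K.map (ξ ^ (i + 1)).toMonoidHom) := Components.isComponent_map_equiv (ξ ^ (i + 1)) hK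
    rw [hD]
    exact Components.component_le_centralizer_of_ne h3 hK h2 ⟨k, hk, rfl⟩
  have hcomm : k * A = A * k := by
    rw [hD, mem_centralizer_iff] at hAD
    exact hAD k hk
  have hfix : ξ (k * A) = k * A := by
    have h4 : ξ (k * A) = ((List.range (n + 1)).map (fun i => (ξ ^ (i + 1)) k)).prod := by
      have h5 : k * A = ((List.range (n + 1)).map (fun i => (ξ ^ i) k)).prod := by
        rw [List.range_succ_eq_map, List.map_cons, List.prod_cons, List.map_map, pow_zero]
        rfl
      rw [h5, map_list_prod, List.map_map]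
      congr 1
      refine List.map_congr_left fun i _ => ?_
      change ξ ((ξ ^ i) k) = (ξ ^ (i + 1)) k
      rw [pow_succ']
      rfl
    rw [h4, List.range_succ, List.map_append, List.prod_append, ← hA, List.map_singleton, List.prod_singleton, ← hn,
      hξ, hcomm]
    rfl
  refine ⟨⟨k * A, hfix⟩, ?_⟩
  change (QuotientGroup.mk' D) (k * A) = (QuotientGroup.mk' D) k
  rw [map_mul]
  have h6 : (QuotientGroup.mk' D) A = 1 := (QuotientGroup.eq_one_iff A).2 hAD
  rw [h6, mul_one]

/-- the range of `C_E(ξ)` in `E / C_E(K)` is good, `K` fixed by `ξ` -/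
theorem good_range_of_fixed (hE : layer E = ⊤) {K D : Subgroup E} [hDn : D.Normal] (hK : IsComponent K)
    (hD : D = centralizer (K : Set E)) (ξ : MulAut E) (hξ : ξ ^ p = 1) (hm : K.map ξ.toMonoidHom = K)
    (hB : ∀ (S : Type u) [Group S] [Finite S], IsSimpleGroup S → ¬ IsMulCommutative S → BpS p S) :
    Good p ↥((QuotientGroup.mk' D).comp (fixedSubgroup ξ).subtype).range := by
  obtain ⟨hs, hna⟩ := simple_quotient hE hK hD
  have hKmem : ∀ k ∈ K, ξ k ∈ K := by
    intro k hk
    have h1 : ξ k ∈ K.map ξ.toMonoidHom := ⟨k, hk, rfl⟩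
    rwa [hm] at h1
  have hDm : D.map ξ.toMonoidHom = D := by
    have h1 : D.map ξ.toMonoidHom ≤ D := by
      rintro _ ⟨d, hd, rfl⟩
      change d ∈ D at hd
      rw [hD, mem_centralizer_iff] at hd ⊢
      intro k hk
      have h2 : k ∈ K.map ξ.toMonoidHom := by rw [hm]; exact hk
      obtain ⟨l, hl, rfl⟩ := h2
      change ξ l * ξ d = ξ d * ξ l
      rw [← map_mul, ← map_mul, hd l hl]
    refine Subgroup.eq_of_le_of_card_ge h1 ?_
    rw [Nat.card_congr (D.equivMapOfInjective _ ξ.injective).symm.toEquiv]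
  let α : MulAut (E ⧸ D) := QuotientGroup.congr D D ξ hDm
  have hα : ∀ e : E, α (QuotientGroup.mk' D e) = QuotientGroup.mk' D (ξ e) := fun e => rfl
  have hαp : α ^ p = 1 := by
    ext y
    obtain ⟨e, rfl⟩ := QuotientGroup.mk'_surjective D y
    have h1 : ∀ i : ℕ, (α ^ i) (QuotientGroup.mk' D e) = QuotientGroup.mk' D ((ξ ^ i) e) := by
      intro i
      induction i with
      | zero => rfl
      | succ i ih =>
        rw [pow_succ', pow_succ', MulAut.mul_apply, MulAut.mul_apply, ih, hα]
    rw [h1, hξ]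
    rfl
  have hgood : Good p ↥(fixedSubgroup α) := by
    rcases (Nat.dvd_prime hp.out).1 (orderOf_dvd_of_pow_eq_one hαp) with h | h
    · have h1 : α = 1 := orderOf_eq_one_iff.1 h
      have h2 : fixedSubgroup α = ⊤ := by
        rw [eq_top_iff]
        intro y _
        change α y = y
        rw [h1]
        rfl
      rw [h2]
      exact (good_of_simple hs).congr Subgroup.topEquiv.symm
    · exact hB (E ⧸ D) hs hna α h
  set R := ((QuotientGroup.mk' D).comp (fixedSubgroup ξ).subtype).range with hR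
  have hRle : R ≤ fixedSubgroup α := by
    rintro _ ⟨e, rfl⟩
    change α (QuotientGroup.mk' D (e : E)) = QuotientGroup.mk' D (e : E)
    rw [hα, show ξ (e : E) = e from e.2]
  -- commutators
  have hcom : ∀ s ∈ fixedSubgroup α, ∀ t ∈ fixedSubgroup α, ⁅s, t⁆ ∈ R := by
    have hlift : ∀ s ∈ fixedSubgroup α, ∃ k ∈ K, QuotientGroup.mk' D k = s ∧ ∃ z ∈ K, z ∈ D ∧ ξ k = k * z := by
      intro s hs
      have h1 : s ∈ K.map (QuotientGroup.mk' D) := by rw [map_mk_eq_top hE hK hD]; exact mem_top s
      obtain ⟨k, hk, rfl⟩ := h1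
      refine ⟨k, hk, rfl, k⁻¹ * ξ k, K.mul_mem (K.inv_mem hk) (hKmem k hk), ?_, by group⟩
      have h2 : α (QuotientGroup.mk' D k) = QuotientGroup.mk' D k := hs
      rw [hα] at h2
      exact QuotientGroup.eq.1 h2.symm
    intro s hs t ht
    obtain ⟨k, hk, rfl, z, hzK, hzD, hz⟩ := hlift s hs
    obtain ⟨l, hl, rfl, w, hwK, hwD, hw⟩ := hlift t ht
    rw [hD, mem_centralizer_iff] at hzD hwD
    have c1 : Commute z k := (hzD k hk).symm
    have c2 : Commute z l := (hzD l hl).symm
    have c3 : Commute w k := (hwD k hk).symm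
    have c4 : Commute w l := (hwD l hl).symm
    have c5 : Commute z w := (hzD w hwK).symm
    have hfix : ξ ⁅k, l⁆ = ⁅k, l⁆ := by
      rw [map_commutatorElement, hz, hw]
      have h1 : (k * z) * (l * w) = (k * l) * (z * w) := by
        rw [mul_assoc, ← mul_assoc z l w, c2.eq, mul_assoc l z w, ← mul_assoc]
      have h2 : (l * w) * (k * z) = (l * k) * (w * z) := by
        rw [mul_assoc, ← mul_assoc w k z, c3.eq, mul_assoc k w z, ← mul_assoc]
      have h3 : ⁅k * z, l * w⁆ = ((k * z) * (l * w)) * ((l * w) * (k * z))⁻¹ := by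
        rw [commutatorElement_def]; group
      rw [h3, h1, h2, c5.eq, commutatorElement_def]
      group
    refine ⟨⟨⁅k, l⁆, hfix⟩, ?_⟩
    change QuotientGroup.mk' D ⁅k, l⁆ = _
    rw [map_commutatorElement]
  have hn : (R.subgroupOf (fixedSubgroup α)).Normal := by
    refine ⟨fun r hr g => ?_⟩
    rw [Subgroup.mem_subgroupOf] at hr ⊢
    have h1 : ((g * r * g⁻¹ : ↥(fixedSubgroup α)) : E ⧸ D) = ⁅(g : E ⧸ D), (r : E ⧸ D)⁆ * r := by
      rw [commutatorElement_def]
      push_cast
      group
    rw [h1]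
    exact R.mul_mem (hcom g g.2 r r.2) hr
  have h4 : Good p ↥(R.subgroupOf (fixedSubgroup α)) := hgood.subnormal hn.isSubnormal
  exact h4.congr (Subgroup.subgroupOfEquivOfLe hRle)

/-- **Automorphisms of order dividing `p` of a product of components.** -/
theorem good_fixed_layer (hE : layer E = ⊤) (ξ : MulAut E) (hξ : ξ ^ p = 1)
    (hB : ∀ (S : Type u) [Group S] [Finite S], IsSimpleGroup S → ¬ IsMulCommutative S → BpS p S) :
    Good p ↥(fixedSubgroup ξ) := by
  have hnK : ∀ K : {K : Subgroup E // IsComponent K}, (centralizer (K.1 : Set E)).Normal := by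
    intro K
    have := component_normal hE K.2
    infer_instance
  refine Good.of_family (ι := {K : Subgroup E // IsComponent K})
    (Q := fun K => ↥((QuotientGroup.mk' (centralizer (K.1 : Set E))).comp (fixedSubgroup ξ).subtype).range)
    (fun K => ((QuotientGroup.mk' (centralizer (K.1 : Set E))).comp (fixedSubgroup ξ).subtype).rangeRestrict)
    (fun K => MonoidHom.rangeRestrict_surjective _) ?_ ?_
  · intro K
    by_cases hm : K.1.map ξ.toMonoidHom = K.1
    · exact good_range_of_fixed hE K.2 rfl ξ hξ hm hB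
    · have h1 := range_eq_top_of_moved hE K.2 rfl ξ hξ hm
      rw [h1]
      exact (good_of_simple (simple_quotient hE K.2 rfl).1).congr Subgroup.topEquiv.symm
  · intro y hy
    rw [mem_iInf] at hy
    have h1 : (y : E) ∈ center E := by
      have h2 : layer E ≤ centralizer ({(y : E)} : Set E) := by
        refine Components.layer_le_iff.2 fun K hK k hk => ?_
        rw [mem_centralizer_iff]
        rintro _ rfl
        have := hnK ⟨K, hK⟩
        have h3 := hy ⟨K, hK⟩
        rw [MonoidHom.ker_rangeRestrict, MonoidHom.mem_ker] at h3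
        have h4 : (QuotientGroup.mk' (centralizer (K : Set E))) (y : E) = 1 := h3
        rw [QuotientGroup.mk'_apply, QuotientGroup.eq_one_iff, mem_centralizer_iff] at h4
        exact (h4 k hk).symm
      rw [hE] at h2
      rw [mem_center_iff]
      intro g
      exact ((mem_centralizer_iff.1 (h2 (mem_top g))) y rfl).symm
    rw [mem_centralizer_iff]
    intro g _
    exact Subtype.ext ((mem_center_iff.1 h1) g)

end One

end Cfsg.Agent.BpRed

end

-- merged: Cfsg.Agent.BpRed.Main
section

/-!
# The reduction of S1332 to elements of order `p` and to simple groups (helper65)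

* `good_of_core_quotient` : from `C_{Y / O_{p'}(Y)}(P)` to `C_Y(P)`;
* `good_of_central_quotient` : from `C_{Y / <z>}(P)` to `C_Y(P)`, `z ∈ P` central of order `p`;
* `ElemRow p` : `O_{p'}(G) = 1`, `x` of order `p` imply `Good p (C_G(x))`;
* `elemRow_of_bps` : `ElemRow p` from `BpS p` for the simple groups;
* `good_centralizer` : `O_{p'}(G) = 1`, `P` a `p`-group imply `Good p (C_G(P))`.
-/

set_option autoImplicit false
set_option linter.unusedSectionVars false

namespace Cfsg.Agent.BpRed

open Subgroup Cfsg Cfsg.Agent.Lib Cfsg.Agent.SignalizersComponents Cfsg.Agent.BpTab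
open scoped commutatorElement

universe u

/-- `L_{p'}`-balance for all finite groups of the universe. -/
def LBal (p : ℕ) : Prop :=
  ∀ (X : Type u) [Group X] [Finite X] (P : Subgroup X), IsPGroup p ↥P →
    (pLayer p ↥(centralizer (P : Set X))).map (centralizer (P : Set X)).subtype ≤ pLayer p X

/-- The theorem for elements of order `p`. -/
def ElemRow (p : ℕ) : Prop :=
  ∀ (G : Type u) [Group G] [Finite G], pPrimeCore p G = ⊥ → ∀ x : G, orderOf x = p →
    Good p ↥(centralizer ({x} : Set G))

section A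

variable {Y : Type u} [Group Y] [Finite Y] {p : ℕ} [hp : Fact p.Prime]

/-- From `C_{Y / O_{p'}(Y)}(P)` to `C_Y(P)`. -/
theorem good_of_core_quotient (hL : LBal.{u} p) (hY : Good p Y) {P : Subgroup Y} (hP : IsPGroup p ↥P)
    (N : Subgroup Y) [hNn : N.Normal] (hN : N = pPrimeCore p Y)
    (h : Good p ↥(centralizer ((P.map (QuotientGroup.mk' N) : Subgroup (Y ⧸ N)) : Set (Y ⧸ N)))) :
    Good p ↥(centralizer (P : Set Y)) := by
  have hle : (centralizer (P : Set Y)).map (QuotientGroup.mk' N) ≤
      centralizer ((P.map (QuotientGroup.mk' N) : Subgroup (Y ⧸ N)) : Set (Y ⧸ N)) := by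
    rintro _ ⟨c, hc, rfl⟩
    rw [mem_centralizer_iff]
    rintro _ ⟨x, hx, rfl⟩
    rw [← map_mul, ← map_mul, (mem_centralizer_iff.1 hc) x hx]
  let f : ↥(centralizer (P : Set Y)) →*
      ↥(centralizer ((P.map (QuotientGroup.mk' N) : Subgroup (Y ⧸ N)) : Set (Y ⧸ N))) :=
    ((QuotientGroup.mk' N).comp (centralizer (P : Set Y)).subtype).codRestrict _
      (fun c => hle ⟨c, c.2, rfl⟩)
  refine h.of_surjective (f := f) ?_ ?_
  · rintro ⟨y, hy⟩
    obtain ⟨g, rfl⟩ := QuotientGroup.mk'_surjective N y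
    rw [mem_centralizer_iff] at hy
    obtain ⟨n, hn, hc⟩ := exists_mul_mem_centralizer (N := N) hP
      (by rw [hN]; exact Cores.pPrimeCore_coprime p) (g := g) (by
        intro a ha
        have h1 := hy _ ⟨a, ha, rfl⟩
        rw [← map_mul, ← map_mul] at h1
        have h2 : QuotientGroup.mk' N (g * a * g⁻¹ * a⁻¹) = 1 := by
          have h3 : g * a * g⁻¹ * a⁻¹ = (g * a) * (a * g)⁻¹ := by group
          rw [h3, map_mul, map_inv, h1, mul_inv_cancel]
        exact (QuotientGroup.eq_one_iff _).1 h2)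
    refine ⟨⟨n * g, hc⟩, ?_⟩
    apply Subtype.ext
    change QuotientGroup.mk' N (n * g) = QuotientGroup.mk' N g
    rw [map_mul, show QuotientGroup.mk' N n = 1 from (QuotientGroup.eq_one_iff n).2 hn, one_mul]
  · intro c hc
    rw [mem_centralizer_iff]
    intro l hl
    apply Subtype.ext
    have h1 : (c : Y) ∈ N := by
      have h2 : f c = 1 := hc
      have h3 : QuotientGroup.mk' N (c : Y) = 1 := congrArg Subtype.val h2
      exact (QuotientGroup.eq_one_iff _).1 h3
    have h2 : (l : Y) ∈ pLayer p Y := hL Y P hP ⟨l, hl, rfl⟩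
    rw [hN] at h1
    have h3 : ⁅pLayer p Y, pPrimeCore p Y⁆ = ⊥ := hY
    have h4 := (commutator_eq_bot_iff_le_centralizer.1 h3) h2
    exact ((mem_centralizer_iff.1 h4) c h1).symm

/-- From `C_{Y / Z}(P)` to `C_Y(P)`, `Z` central in `Y` and contained in `P`. -/
theorem good_of_central_quotient {P : Subgroup Y} (Z : Subgroup Y) [hZn : Z.Normal] (hZ : Z ≤ center Y)
    (h : Good p ↥(centralizer ((P.map (QuotientGroup.mk' Z) : Subgroup (Y ⧸ Z)) : Set (Y ⧸ Z)))) :
    Good p ↥(centralizer (P : Set Y)) := by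
  set N := centralizer ((P.map (QuotientGroup.mk' Z) : Subgroup (Y ⧸ Z)) : Set (Y ⧸ Z)) with hN
  set M := (centralizer (P : Set Y)).map (QuotientGroup.mk' Z) with hM
  have hle : M ≤ N := by
    rintro _ ⟨c, hc, rfl⟩
    rw [hN, mem_centralizer_iff]
    rintro _ ⟨x, hx, rfl⟩
    rw [← map_mul, ← map_mul, (mem_centralizer_iff.1 hc) x hx]
  have hcom : ∀ s ∈ N, ∀ t ∈ N, ⁅s, t⁆ ∈ M := by
    have hlift : ∀ a : Y, QuotientGroup.mk' Z a ∈ N → ∀ x ∈ P, ∃ z ∈ Z, a * x * a⁻¹ = x * z := by
      intro a ha x hx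
      have h1 := (mem_centralizer_iff.1 ha) _ ⟨x, hx, rfl⟩
      rw [← map_mul, ← map_mul] at h1
      refine ⟨x⁻¹ * (a * x * a⁻¹), ?_, by group⟩
      rw [← QuotientGroup.eq_one_iff (N := Z)]
      have h2 : x⁻¹ * (a * x * a⁻¹) = (a * x * a⁻¹ * x⁻¹) * ((x * (a * x⁻¹ * a⁻¹)) * (x⁻¹ * (a * x * a⁻¹))) := by
        group
      have h3 : QuotientGroup.mk' Z (x⁻¹ * (a * x * a⁻¹)) = 1 := by
        have h4 : x⁻¹ * (a * x * a⁻¹) = x⁻¹ * ((a * x) * a⁻¹) := by group
        rw [h4, map_mul, map_mul, ← h1, ← map_mul, ← map_mul]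
        have h5 : x⁻¹ * (x * a * a⁻¹) = 1 := by group
        rw [h5, map_one]
      exact h3
    intro s hs t ht
    obtain ⟨a, rfl⟩ := QuotientGroup.mk'_surjective Z s
    obtain ⟨b, rfl⟩ := QuotientGroup.mk'_surjective Z t
    refine ⟨⁅a, b⁆, ?_, map_commutatorElement _ _ _⟩
    change ⁅a, b⁆ ∈ centralizer (P : Set Y)
    rw [mem_centralizer_iff]
    intro x hx
    obtain ⟨z, hz, hza⟩ := hlift a hs x hx
    obtain ⟨w, hw, hwb⟩ := hlift b ht x hx
    have hzc := mem_center_iff.1 (hZ hz)
    have hwc := mem_center_iff.1 (hZ hw)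
    -- `(b a) x (b a)⁻¹ = (a b) x (a b)⁻¹`
    have e1 : (b * a) * x * (b * a)⁻¹ = x * w * z := by
      calc (b * a) * x * (b * a)⁻¹ = b * (a * x * a⁻¹) * b⁻¹ := by group
        _ = b * (x * z) * b⁻¹ := by rw [hza]
        _ = (b * x * b⁻¹) * (b * z * b⁻¹) := by group
        _ = x * w * z := by rw [hwb, hzc b, mul_inv_cancel_right]
    have e2 : (a * b) * x * (a * b)⁻¹ = x * z * w := by
      calc (a * b) * x * (a * b)⁻¹ = a * (b * x * b⁻¹) * a⁻¹ := by group
        _ = a * (x * w) * a⁻¹ := by rw [hwb]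
        _ = (a * x * a⁻¹) * (a * w * a⁻¹) := by group
        _ = x * z * w := by rw [hza, hwc a, mul_inv_cancel_right]
    have e3 : (b * a) * x * (b * a)⁻¹ = (a * b) * x * (a * b)⁻¹ := by
      rw [e1, e2, mul_assoc, mul_assoc, hzc w]
    -- apply with `x' = (b a)⁻¹ x (b a)`
    have hx2 : ∀ x ∈ P, ∃ v ∈ Z, (b * a)⁻¹ * x * (b * a) = x * v := by
      intro x hx
      have hba : QuotientGroup.mk' Z ((b * a)⁻¹) ∈ N := by
        rw [map_inv, map_mul]
        exact N.inv_mem (N.mul_mem ht hs)
      obtain ⟨v, hv, h1⟩ := hlift _ hba x hx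
      exact ⟨v, hv, by rw [← h1, inv_inv]⟩
    obtain ⟨v, hv, hvx⟩ := hx2 x hx
    have hvc := mem_center_iff.1 (hZ hv)
    -- `x = (b a) (x v) (b a)⁻¹`
    have e4 : x = (b * a) * x * (b * a)⁻¹ * v := by
      have h1 : x = (b * a) * (x * v) * (b * a)⁻¹ := by rw [← hvx]; group
      calc x = (b * a) * (x * v) * (b * a)⁻¹ := h1
        _ = ((b * a) * x * (b * a)⁻¹) * ((b * a) * v * (b * a)⁻¹) := by group
        _ = (b * a) * x * (b * a)⁻¹ * v := by rw [hvc (b * a), mul_inv_cancel_right]
    have e5 : x = (a * b) * ((b * a)⁻¹ * x * (b * a)) * (a * b)⁻¹ := by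
      rw [hvx]
      calc x = (b * a) * x * (b * a)⁻¹ * v := e4
        _ = (a * b) * x * (a * b)⁻¹ * v := by rw [e3]
        _ = ((a * b) * x * (a * b)⁻¹) * ((a * b) * v * (a * b)⁻¹) := by rw [hvc (a * b), mul_inv_cancel_right]
        _ = (a * b) * (x * v) * (a * b)⁻¹ := by group
    have e6 : ⁅a, b⁆ * x * ⁅a, b⁆⁻¹ = x := by
      conv_rhs => rw [e5]
      rw [commutatorElement_def]
      group
    calc x * ⁅a, b⁆ = (⁅a, b⁆ * x * ⁅a, b⁆⁻¹) * ⁅a, b⁆ := by rw [e6]
      _ = ⁅a, b⁆ * x := by group
  have hn : (M.subgroupOf N).Normal := by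
    refine ⟨fun r hr g => ?_⟩
    rw [Subgroup.mem_subgroupOf] at hr ⊢
    have h1 : ((g * r * g⁻¹ : ↥N) : Y ⧸ Z) = ⁅(g : Y ⧸ Z), (r : Y ⧸ Z)⁆ * r := by
      rw [commutatorElement_def]
      push_cast
      group
    rw [h1]
    exact M.mul_mem (hcom g g.2 r (hle hr)) hr
  have h4 : Good p ↥M := (h.subnormal hn.isSubnormal).congr (Subgroup.subgroupOfEquivOfLe hle)
  refine h4.of_surjective (f := (QuotientGroup.mk' Z).subgroupMap (centralizer (P : Set Y)))
    ((QuotientGroup.mk' Z).subgroupMap_surjective _) ?_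
  intro c hc
  have h5 : (c : Y) ∈ Z := by
    have h6 : QuotientGroup.mk' Z (c : Y) = 1 := congrArg Subtype.val (MonoidHom.mem_ker.1 hc)
    exact (QuotientGroup.eq_one_iff _).1 h6
  rw [mem_centralizer_iff]
  intro g _
  exact Subtype.ext ((mem_center_iff.1 (hZ h5)) g)

theorem good_top (h : pPrimeCore p Y = ⊥) : Good p ↥(⊤ : Subgroup Y) :=
  (good_of_core h).congr Subgroup.topEquiv.symm

/-- **Reduction to elements of order `p`.** -/
theorem good_centralizer (hL : LBal.{u} p) (hE : ElemRow.{u} p) : ∀ (n : ℕ) (G : Type u) [Group G] [Finite G],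
    pPrimeCore p G = ⊥ → ∀ P : Subgroup G, IsPGroup p ↥P → Nat.card P ≤ n → Good p ↥(centralizer (P : Set G)) := by
  intro n
  induction n with
  | zero =>
    intro G _ _ _ P _ h
    exact absurd (Nat.card_pos (α := P)) (by omega)
  | succ n ih =>
    intro G _ _ hO P hP hc
    by_cases hP1 : P = ⊥
    · have h1 : centralizer (P : Set G) = ⊤ := by
        rw [hP1, eq_top_iff]
        intro g _
        rw [mem_centralizer_iff]
        intro x hx
        rw [SetLike.mem_coe, mem_bot] at hx
        rw [hx, one_mul, mul_one]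
      rw [h1]
      exact good_top hO
    -- a central element of order `p` of `P`
    have hPn : Nontrivial P := (nontrivial_iff_ne_bot P).2 hP1
    have hcn : Nontrivial (center P) := hP.center_nontrivial
    obtain ⟨z, hz⟩ : ∃ z : center P, orderOf z = p := by
      apply exists_prime_orderOf_dvd_card'
      obtain ⟨k, hk⟩ := (hP.to_subgroup (center P)).exists_card_eq
      rw [hk]
      rcases Nat.eq_zero_or_pos k with h0 | h0
      · rw [h0, pow_zero] at hk
        exact absurd (Finite.one_lt_card (α := center P)) (by omega)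
      · exact dvd_pow_self p (by omega)
    set x : G := ((z : P) : G) with hx
    have hxo : orderOf x = p := by rw [hx, Subgroup.orderOf_coe, Subgroup.orderOf_coe, hz]
    have hxP : x ∈ P := (z : P).2
    have hxc : ∀ y ∈ P, x * y = y * x := fun y hy =>
      congrArg Subtype.val ((mem_center_iff.1 z.2) ⟨y, hy⟩).symm
    -- inside `Y = C_G(x)`
    set Y : Subgroup G := centralizer ({x} : Set G) with hY
    have hPY : P ≤ Y := by
      intro y hy
      rw [hY, mem_centralizer_iff]
      rintro _ rfl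
      exact hxc y hy
    have hCY : centralizer (P : Set G) ≤ Y := by
      intro y hy
      rw [hY, mem_centralizer_iff]
      rintro _ rfl
      exact (mem_centralizer_iff.1 hy) _ hxP
    have hgY : Good p ↥Y := hE G hO x hxo
    let PY : Subgroup Y := P.subgroupOf Y
    have hPYp : IsPGroup p ↥PY := hP.comap_subtype
    -- it is enough to work in `Y`
    have hcent : (centralizer (PY : Set Y)).map Y.subtype = centralizer (P : Set G) := by
      ext g
      constructor
      · rintro ⟨y, hy, rfl⟩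
        rw [mem_centralizer_iff]
        intro a ha
        exact congrArg Subtype.val ((mem_centralizer_iff.1 hy) ⟨a, hPY ha⟩ ha)
      · intro hg
        refine ⟨⟨g, hCY hg⟩, ?_, rfl⟩
        change (⟨g, hCY hg⟩ : Y) ∈ centralizer (PY : Set Y)
        rw [mem_centralizer_iff]
        intro a ha
        exact Subtype.ext ((mem_centralizer_iff.1 hg) (a : G) ha)
    have e : ↥(centralizer (PY : Set Y)) ≃* ↥(centralizer (P : Set G)) :=
      ((centralizer (PY : Set Y)).equivMapOfInjective _ Y.subtype_injective).trans (MulEquiv.subgroupCongr hcent)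
    refine Good.congr ?_ e
    -- pass to `Y / O_{p'}(Y)`
    have hNn : (pPrimeCore p ↥Y).Normal := Cores.pPrimeCore_normal p
    refine good_of_core_quotient hL hgY hPYp (pPrimeCore p ↥Y) rfl ?_
    set Q := ↥Y ⧸ pPrimeCore p ↥Y with hQ
    have hOQ : pPrimeCore p Q = ⊥ := PComponents.pPrimeCore_quotient_eq_bot p
    set PQ : Subgroup Q := PY.map (QuotientGroup.mk' (pPrimeCore p ↥Y)) with hPQ
    -- the central subgroup
    let zq : Q := QuotientGroup.mk' (pPrimeCore p ↥Y) ⟨x, hPY hxP⟩
    have hzc : zq ∈ center Q := by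
      rw [mem_center_iff]
      intro g
      obtain ⟨y, rfl⟩ := QuotientGroup.mk'_surjective _ g
      change _ * QuotientGroup.mk' (pPrimeCore p ↥Y) ⟨x, hPY hxP⟩ = QuotientGroup.mk' (pPrimeCore p ↥Y) ⟨x, hPY hxP⟩ * _
      rw [← map_mul, ← map_mul]
      congr 1
      apply Subtype.ext
      exact ((mem_centralizer_iff.1 y.2) x rfl).symm
    have hZ : zpowers zq ≤ center Q := by
      rw [zpowers_le]; exact hzc
    have hZn : (zpowers zq).Normal := by
      refine ⟨fun a ha g => ?_⟩
      have h1 := (mem_center_iff.1 (hZ ha)) g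
      rwa [h1, mul_inv_cancel_right]
    refine good_of_central_quotient (zpowers zq) hZ ?_
    have hO2 : pPrimeCore p (Q ⧸ zpowers zq) = ⊥ := by
      have h1 := BpLin.core_quotient_le (p := p) hZ
      rw [hOQ, Subgroup.map_bot] at h1
      exact le_bot_iff.1 h1
    refine ih (Q ⧸ zpowers zq) hO2 _ ((hPYp.map _).map _) ?_
    -- the order drops
    have h1 : Nat.card ↥(PQ.map (QuotientGroup.mk' (zpowers zq))) < Nat.card P := by
      let g : P →* Q ⧸ zpowers zq :=
        ((QuotientGroup.mk' (zpowers zq)).comp (QuotientGroup.mk' (pPrimeCore p ↥Y))).comp (Subgroup.inclusion hPY)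
      have hg : g.range = PQ.map (QuotientGroup.mk' (zpowers zq)) := by
        ext w
        constructor
        · rintro ⟨a, rfl⟩
          exact ⟨_, ⟨Subgroup.inclusion hPY a, a.2, rfl⟩, rfl⟩
        · rintro ⟨_, ⟨a, ha, rfl⟩, rfl⟩
          exact ⟨⟨a, ha⟩, rfl⟩
      rw [← hg]
      have h2 : Nat.card P = Nat.card g.ker * Nat.card g.range := by
        rw [← Subgroup.card_mul_index g.ker, Subgroup.index_ker]
      have h3 : 1 < Nat.card g.ker := by
        rw [← Nat.card_congr (Equiv.refl _)]
        have h4 : Nontrivial g.ker := by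
          refine ⟨⟨⟨z, ?_⟩, 1, ?_⟩⟩
          · rw [MonoidHom.mem_ker]
            change QuotientGroup.mk' (zpowers zq) zq = 1
            exact (QuotientGroup.eq_one_iff _).2 (mem_zpowers zq)
          · intro h
            have h5 : (z : P) = 1 := congrArg Subtype.val h
            have h6 : z = 1 := Subtype.ext h5
            rw [h6, orderOf_one] at hz
            exact hp.out.one_lt.ne hz
        exact Finite.one_lt_card
      rw [h2]
      have h4 : 0 < Nat.card g.range := Nat.card_pos
      nlinarith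
    omega

end A

/-! ### elements of order `p` from the simple groups -/

section B

variable {p : ℕ} [hp : Fact p.Prime]

theorem pLayer_le_layer {G : Type*} [Group G] [Finite G] (h : pPrimeCore p G = ⊥) : pLayer p G ≤ layer G := by
  have h1 := PComponents.map_pLayer (p := p) (X := G)
  intro y hy
  have h2 : (QuotientGroup.mk' (pPrimeCore p G)) y ∈ layer (G ⧸ pPrimeCore p G) := by
    rw [← h1]; exact mem_map_of_mem _ hy
  have hinj : Function.Injective (QuotientGroup.mk' (pPrimeCore p G)) := by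
    rw [← MonoidHom.ker_eq_bot_iff, QuotientGroup.ker_mk', h]
  let e : G ≃* G ⧸ pPrimeCore p G :=
    MulEquiv.ofBijective (QuotientGroup.mk' (pPrimeCore p G)) ⟨hinj, QuotientGroup.mk'_surjective _⟩
  have h3 := Components.map_equiv_layer e
  rw [← h3] at h2
  obtain ⟨g, hg, hgy⟩ := h2
  have h4 : g = y := hinj hgy
  rwa [← h4]

theorem layer_layer {G : Type*} [Group G] : layer ↥(layer G) = ⊤ := by
  rw [← (Subgroup.map_injective (layer G).subtype_injective).eq_iff, ← MonoidHom.range_eq_map, range_subtype]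
  apply le_antisymm (Subgroup.map_subtype_le _)
  refine Components.layer_le_iff.2 fun K hK => ?_
  have h1 : IsComponent (K.subgroupOf (layer G)) :=
    Components.isComponent_subgroupOf (Components.component_le_layer hK) hK
  have h2 := Subgroup.map_mono (f := (layer G).subtype) (Components.component_le_layer h1)
  rwa [subgroupOf_map_subtype, inf_of_le_left (Components.component_le_layer hK)] at h2

/-- **`ElemRow p` from the simple groups.** -/
theorem elemRow_of_bps (hL : LBal.{u} p)
    (hB : ∀ (S : Type u) [Group S] [Finite S], IsSimpleGroup S → ¬ IsMulCommutative S → BpS p S) : ElemRow.{u} p := by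
  intro G _ _ hO x hx
  have hEn : (layer G).Normal := Components.layer_normal G
  set C : Subgroup G := centralizer ({x} : Set G) with hC
  -- `L_{p'}(C) ≤ E(G)`
  have hcz : centralizer ((zpowers x : Subgroup G) : Set G) = C := by
    ext g
    rw [hC, mem_centralizer_iff, mem_centralizer_iff]
    constructor
    · rintro h _ rfl
      exact h _ (mem_zpowers _)
    · rintro h _ ⟨k, rfl⟩
      exact (Commute.zpow_left (show Commute x g from h x rfl) k).eq
  have hPz : IsPGroup p ↥(zpowers x) := by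
    apply IsPGroup.of_card (n := 1)
    rw [Nat.card_zpowers, hx, pow_one]
  have hlay : pLayer p ↥C ≤ (layer G).subgroupOf C := by
    have h1 := hL G (zpowers x) hPz
    rw [hcz] at h1
    intro y hy
    rw [mem_subgroupOf]
    exact pLayer_le_layer hO (h1 ⟨y, hy, rfl⟩)
  refine Good.of_normal (N := (layer G).subgroupOf C) inferInstance ?_ hlay
  -- the automorphism of `E(G)` induced by `x`
  let ξ : MulAut ↥(layer G) := MulAut.conjNormal x
  have hξ : ∀ y : ↥(layer G), ((ξ y : ↥(layer G)) : G) = x * y * x⁻¹ := fun y => MulAut.conjNormal_apply x y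
  have hξp : ξ ^ p = 1 := by
    have h1 : x ^ p = 1 := by rw [← hx, pow_orderOf_eq_one]
    rw [← map_pow, h1, map_one]
  have h1 : Good p ↥(fixedSubgroup ξ) := good_fixed_layer layer_layer ξ hξp hB
  let e : ↥(fixedSubgroup ξ) ≃* ↥((layer G).subgroupOf C) :=
    { toFun := fun y => ⟨⟨(y : ↥(layer G)), by
        rw [hC, mem_centralizer_iff]
        rintro _ rfl
        have h2 : ξ (y : ↥(layer G)) = y := y.2
        have h3 := hξ (y : ↥(layer G))
        rw [h2] at h3
        rw [eq_mul_inv_iff_mul_eq] at h3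
        exact h3.symm⟩, (y : ↥(layer G)).2⟩
      invFun := fun y => ⟨⟨((y : C) : G), y.2⟩, by
        change ξ _ = _
        apply Subtype.ext
        rw [hξ]
        have h2 := (mem_centralizer_iff.1 (y : C).2) x rfl
        change x * ((y : C) : G) * x⁻¹ = ((y : C) : G)
        rw [h2, mul_inv_cancel_right]⟩
      left_inv := fun y => rfl
      right_inv := fun y => rfl
      map_mul' := fun a b => rfl }
  exact h1.congr e

end B

end Cfsg.Agent.BpRed

end

-- merged: Cfsg.Agent.BpRed.Final
section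

/-!
# S1332 from the rows (helper65)

* `s1332_of` : both parts of S1332 from `LBal p` and `ElemRow p`;
* `elemRow_two` : `ElemRow 2` from the `B`-theorem (S1727) and the odd order theorem;
* `s1332` : the literal S1332 from the rows `BpTab.Rows q`, `q` odd, with S0000, S1727, S0205 and the Schreier property of the
  known simple groups as hypotheses.
-/

set_option autoImplicit false
set_option linter.unusedSectionVars false

namespace Cfsg.Agent.BpRed

open Subgroup Cfsg Cfsg.Agent.Lib Cfsg.Agent.SignalizersComponents Cfsg.Agent.BpTab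
open Cfsg.Agent.Schreier

universe u

section Normalizer

variable {H : Type*} [Group H] [Finite H] {p : ℕ} [hp : Fact p.Prime]

/-- The `p`-layer centralizes every normal `p`-subgroup (after helper66, `BpAlt/Perm.lean`). -/
theorem pLayer_le_centralizer {P : Subgroup H} (hn : P.Normal) (hP : IsPGroup p ↥P) :
    pLayer p H ≤ centralizer (P : Set H) := by
  rw [← commutator_eq_bot_iff_le_centralizer]
  have hn' : (P.map (QuotientGroup.mk' (pPrimeCore p H))).Normal :=
    hn.map _ (QuotientGroup.mk'_surjective _)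
  have hs : Group.IsSolvable ↥(P.map (QuotientGroup.mk' (pPrimeCore p H))) := by
    have h1 : IsPGroup p ↥(P.map (QuotientGroup.mk' (pPrimeCore p H))) := hP.map _
    have h2 : Group.IsNilpotent ↥(P.map (QuotientGroup.mk' (pPrimeCore p H))) := h1.isNilpotent
    exact inferInstance
  have h1 : ⁅pLayer p H, P⁆ ≤ pPrimeCore p H := by
    have h2 := ComponentSolvable.layer_le_centralizer_of_normal_solvable hn' hs
    rw [← PComponents.map_pLayer, ← commutator_eq_bot_iff_le_centralizer, ← Subgroup.map_commutator,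
      Subgroup.map_eq_bot_iff, QuotientGroup.ker_mk'] at h2
    exact h2
  have h3 : ⁅pLayer p H, P⁆ ≤ P := commutator_le_right _ _
  have h4 : P ⊓ pPrimeCore p H = ⊥ := by
    apply Subgroup.inf_eq_bot_of_coprime
    obtain ⟨k, hk⟩ := hP.exists_card_eq
    rw [hk]
    exact (Cores.pPrimeCore_coprime (G := H) p).symm.pow_left k
  exact le_bot_iff.mp ((le_inf h3 h1).trans h4.le)

end Normalizer

section Red

variable {p : ℕ} [hp : Fact p.Prime] {G : Type u} [Group G] [Finite G]

theorem pLayer_normalizer_le (P : Subgroup G) (hP : IsPGroup p ↥P) :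
    (pLayer p ↥(normalizer (P : Set G))) ≤ (centralizer (P : Set G)).subgroupOf (normalizer (P : Set G)) := by
  have hPN : P ≤ normalizer (P : Set G) := le_normalizer
  have h1 : (P.subgroupOf (normalizer (P : Set G))).Normal := Subgroup.normal_in_normalizer
  have h2 := pLayer_le_centralizer (p := p) h1 hP.comap_subtype
  refine h2.trans fun y hy => ?_
  rw [mem_subgroupOf, mem_centralizer_iff]
  intro x hx
  exact congrArg Subtype.val ((mem_centralizer_iff.1 hy) ⟨x, hPN hx⟩ hx)

theorem centralizer_normal_in (P : Subgroup G) :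
    ((centralizer (P : Set G)).subgroupOf (normalizer (P : Set G))).Normal := by
  refine ⟨fun c hc g => ?_⟩
  rw [mem_subgroupOf, mem_centralizer_iff] at hc ⊢
  intro x hx
  have h1 : (g : G)⁻¹ * x * (g : G) ∈ P := by
    have := (mem_normalizer_iff.1 (inv_mem g.2)) x
    rw [inv_inv] at this
    exact this.1 hx
  have h2 := hc _ h1
  change x * ((g : G) * (c : G) * (g : G)⁻¹) = (g : G) * (c : G) * (g : G)⁻¹ * x
  calc x * ((g : G) * (c : G) * (g : G)⁻¹) = (g : G) * (((g : G)⁻¹ * x * (g : G)) * (c : G)) * (g : G)⁻¹ := by group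
    _ = (g : G) * ((c : G) * ((g : G)⁻¹ * x * (g : G))) * (g : G)⁻¹ := by rw [h2]
    _ = (g : G) * (c : G) * (g : G)⁻¹ * x := by group

/-- **both parts of S1332** -/
theorem s1332_of (hL : LBal.{u} p) (hE : ElemRow.{u} p) (P : Subgroup G) (hP : IsPGroup p ↥P) :
    (pLayer p ↥(normalizer (P : Set G))).map (normalizer (P : Set G)).subtype ≤ pLayer p G ∧
      (pPrimeCore p G = ⊥ →
        ⁅pLayer p ↥(normalizer (P : Set G)), pPrimeCore p ↥(normalizer (P : Set G))⁆ = ⊥) := by
  have hle := pLayer_normalizer_le (p := p) P hP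
  have hCN : centralizer (P : Set G) ≤ normalizer (P : Set G) := by
    intro c hc
    rw [mem_normalizer_iff]
    intro x
    rw [mem_centralizer_iff] at hc
    constructor
    · intro hx
      rw [← hc x hx, mul_inv_cancel_right]
      exact hx
    · intro hx
      have h1 := hc _ hx
      have h2 : x = c * x * c⁻¹ := by
        have h3 : c * x * c⁻¹ * c = c * (c * x * c⁻¹) := h1
        have h4 : c * x = c * (c * x * c⁻¹) := by rw [← h3]; group
        exact mul_left_cancel h4
      rw [h2]
      exact hx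
  have hn := centralizer_normal_in P
  constructor
  · have h1 := KBalance.PL_eq_of_subnormal p hCN hn.isSubnormal (by
      rintro _ ⟨y, hy, rfl⟩
      exact hle hy)
    rw [KBalance.PL_def, KBalance.PL_def] at h1
    rw [← h1]
    exact hL G P hP
  · intro hO
    have h1 : Good p ↥(centralizer (P : Set G)) := good_centralizer hL hE _ G hO P hP le_rfl
    have h2 : Good p ↥((centralizer (P : Set G)).subgroupOf (normalizer (P : Set G))) :=
      h1.congr (Subgroup.subgroupOfEquivOfLe hCN).symm
    exact Good.of_normal hn h2 hle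

end Red

/-- `ElemRow 2` from the `B`-theorem. -/
theorem elemRow_two (hFT : ∀ (X : Type u) [Group X] [Finite X], Odd (Nat.card X) → Group.IsSolvable X)
    (hBT : ∀ (X : Type u) [Group X] [Finite X], oddCore X = ⊥ → ∀ t : X, orderOf t = 2 →
      pLayer 2 ↥(centralizer ({t} : Set X)) = layer ↥(centralizer ({t} : Set X))) : ElemRow.{u} 2 := by
  intro G _ _ hO x hx
  unfold Good
  rw [hBT G hO x hx]
  refine Components.layer_commutator_solvable ?_ ?_
  · have h1 := Cores.pPrimeCore_normal (G := ↥(centralizer ({x} : Set G))) 2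
    rw [normalizer_eq_top_iff.2 h1]
    exact le_top
  · apply hFT
    have h1 := Cores.pPrimeCore_coprime (G := ↥(centralizer ({x} : Set G))) 2
    exact Nat.coprime_two_right.1 h1

/-- `L_{p'}`-balance for all finite groups. -/
theorem lBal (hS : Cases.SchFor.{u} @IsKnownSimple')
    (hkn : ∀ (X : Type u) [Group X] [Finite X] [IsSimpleGroup X], IsKnownSimple' X) (p : ℕ) [Fact p.Prime] :
    LBal.{u} p := by
  intro X _ _ P hP
  refine Cases.balance hS ?_ p P hP
  intro H _ N _ h1 _
  exact hkn (H ⧸ N)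

/-- **S1332 from the rows.** -/
theorem s1332 (hS : Cases.SchFor.{u} @IsKnownSimple')
    (hFT : ∀ (X : Type u) [Group X] [Finite X], Odd (Nat.card X) → Group.IsSolvable X)
    (hBT : ∀ (X : Type u) [Group X] [Finite X], oddCore X = ⊥ → ∀ t : X, orderOf t = 2 →
      pLayer 2 ↥(centralizer ({t} : Set X)) = layer ↥(centralizer ({t} : Set X)))
    (R : ∀ q : ℕ, q.Prime → q ≠ 2 → Rows.{u} q)
    (hkn : ∀ (X : Type u) [Group X] [Finite X] [IsSimpleGroup X], IsKnownSimple' X)
    {G : Type u} [Group G] [Finite G] (p : ℕ) [hp : Fact p.Prime] (P : Subgroup G) (hP : IsPGroup p ↥P) :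
    (pLayer p ↥(normalizer (P : Set G))).map (normalizer (P : Set G)).subtype ≤ pLayer p G ∧
      (pPrimeCore p G = ⊥ →
        ⁅pLayer p ↥(normalizer (P : Set G)), pPrimeCore p ↥(normalizer (P : Set G))⁆ = ⊥) := by
  have hL : LBal.{u} p := lBal hS hkn p
  refine s1332_of hL ?_ P hP
  by_cases h2 : p = 2
  · subst h2
    exact elemRow_two hFT hBT
  · refine elemRow_of_bps hL fun S _ _ hs _ => ?_
    have := hs
    exact (R p hp.out h2).bps (hkn S)

end Cfsg.Agent.BpRed

end
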